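import Groth.Agent.UnitsLib.Thick
import Groth.Agent.S0459

/-!
# Cohomology of the kernels along a step
-/

universe u

open CategoryTheory CategoryTheory.Limits AlgebraicGeometry Opposite TopologicalSpace CategoryTheory.Abelian

noncomputable section

set_option autoImplicit false
set_option maxHeartbeats 400000
set_option synthInstance.maxHeartbeats 100000
set_option backward.isDefEq.respectTransparency false
set_option backward.isDefEq.respectTransparency.types false

namespace Groth.Agent.UnitsLib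

section LES

variable {T : TopCat.{u}} {S : ShortComplex (CohTop.Ab T)}

theorem H_surjective_of_subsingleton (hS : S.ShortExact) (q : ℕ)
    (h : Subsingleton (CohTop.H S.X₁ (q + 1))) : Function.Surjective (Sheaf.H.map S.g q) := fun x =>
  Ext.covariant_sequence_exact₃ _ hS x rfl (Subsingleton.elim _ _)

theorem H_exact (hS : S.ShortExact) (q : ℕ) (x : CohTop.H S.X₂ q) (hx : Sheaf.H.map S.g q x = 0) :
    ∃ y, Sheaf.H.map S.f q y = x :=
  Ext.covariant_sequence_exact₂ _ hS x hx

theorem H_subsingleton_mid (hS : S.ShortExact) (q : ℕ) (h₁ : Subsingleton (CohTop.H S.X₁ q))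
    (h₃ : Subsingleton (CohTop.H S.X₃ q)) : Subsingleton (CohTop.H S.X₂ q) := by
  refine subsingleton_of_forall_eq 0 fun x => ?_
  obtain ⟨y, rfl⟩ := H_exact hS q x (Subsingleton.elim _ _)
  rw [Subsingleton.elim y 0, map_zero]

/-- Isomorphic sheaves have the same cohomology. -/
def Hiso {F G : CohTop.Ab T} (e : F ≅ G) (q : ℕ) : CohTop.H F q ≃+ CohTop.H G q :=
  ((extFunctorObj ((constantSheaf (Opens.grothendieckTopology T) AddCommGrpCat.{u}).obj
    (AddCommGrpCat.of (ULift.{u} ℤ))) q).mapIso e).addCommGroupIsoToAddEquiv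

theorem H_subsingleton_of_isZero {F : CohTop.Ab T} (h : IsZero F) (q : ℕ) :
    Subsingleton (CohTop.H F q) :=
  AddCommGrpCat.subsingleton_of_isZero
    (Functor.map_isZero (extFunctorObj ((constantSheaf (Opens.grothendieckTopology T) AddCommGrpCat.{u}).obj
      (AddCommGrpCat.of (ULift.{u} ℤ))) q) h)

/-- Injectivity from a section of the second map. -/
theorem H_injective_of_section (hS : S.ShortExact) (s : S.X₃ ⟶ S.X₂) (hs : s ≫ S.g = 𝟙 _) (q : ℕ) :
    Function.Injective (Sheaf.H.map S.f q) := by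
  have := hS.mono_f
  have : Balanced (CohTop.Ab T) := inferInstance
  let sp := ShortComplex.Splitting.ofExactOfSection _ hS.exact s hs inferInstance
  refine fun a b hab => ?_
  have key : ∀ x : CohTop.H S.X₁ q, Sheaf.H.map sp.r q (Sheaf.H.map S.f q x) = x := fun x => by
    show Sheaf.H.map sp.r q (Sheaf.H.map S.f q x) = x
    show (x.comp (Ext.mk₀ S.f) (add_zero q)).comp (Ext.mk₀ sp.r) (add_zero q) = x
    rw [Ext.comp_assoc_of_second_deg_zero, Ext.mk₀_comp_mk₀, sp.f_r, Ext.comp_mk₀_id]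
  rw [← key a, ← key b, hab]

end LES

variable {X Z Za Zb Z₀ : Scheme.{u}}

theorem subsingleton_H_push (i : Z ⟶ X) [IsClosedImmersion i] (q : ℕ)
    (h : Subsingleton (Coh.HH Z (Coh.structureModule Z) q)) :
    Subsingleton (CohTop.H ((CohTop.push i.base).obj (addSh Z)) q) := by
  obtain ⟨e⟩ := S0459.result i.base i.isClosedEmbedding (addSh Z) q
  have : Subsingleton (CohTop.H (addSh Z) q) := h
  exact e.symm.injective.subsingleton

theorem nonempty_H_push_equiv (i : Z ⟶ X) [IsClosedImmersion i] (q : ℕ) :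
    Nonempty (CohTop.H ((CohTop.push i.base).obj (addSh Z)) q ≃+ Coh.HH Z (Coh.structureModule Z) q) := by
  obtain ⟨e⟩ := S0459.result i.base i.isClosedEmbedding (addSh Z) q
  exact ⟨e.symm⟩

variable {ia : Za ⟶ X} {ib : Zb ⟶ X} {i₀ : Z₀ ⟶ X} {τ : Γ(X, ⊤)}

theorem subsingleton_H_ku (h : Step ia ib i₀ τ) [IsClosedImmersion i₀] (q : ℕ)
    (hb : Subsingleton (CohTop.H (Ku ib) q)) (h₀ : Subsingleton (Coh.HH Z₀ (Coh.structureModule Z₀) q)) :
    Subsingleton (CohTop.H (Ku ia) q) := by
  obtain ⟨e⟩ := nonempty_quot_iso h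
  have h₃ : Subsingleton (CohTop.H (Quot₁ h) q) :=
    @Function.Injective.subsingleton _ _ _ (Hiso e q).injective (subsingleton_H_push i₀ q h₀)
  exact H_subsingleton_mid (ku_shortExact h) q hb h₃

/-- If nothing is killed, the unit kernel vanishes. -/
theorem isZero_ku (i : Z ⟶ X) (hinj : ∀ (V : X.Opens), IsAffineOpen V → ∀ x, i.app V x = 0 → x = 0) :
    IsZero (Ku i) := by
  rw [IsZero.iff_id_eq_zero]
  refine shExt fun U a => ?_
  show a = 0
  refine kernel_ι_injective (UnitsSh.comap i) U (valU_injective ?_)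
  refine Eq.trans ?_ (congrArg valU (map_zero ((kernel.ι (UnitsSh.comap i)).hom.app (op U)).hom)).symm
  rw [valU_zero]
  have h1 := (comap_eq_zero_iff i _).1 (app_kernel_ι (UnitsSh.comap i) U a)
  set x : Γ(X, U) := valU ((kernel.ι (UnitsSh.comap i)).hom.app (op U) a)
  refine sub_eq_zero.1 ?_
  have hc : ∀ p : U, ∃ V : X.Opens, IsAffineOpen V ∧ p.1 ∈ V ∧ V ≤ U := fun p => by
    obtain ⟨V, hV, hpV, hVU⟩ := exists_isAffineOpen_mem_and_subset p.2
    exact ⟨V, hV, hpV, hVU⟩
  choose V hV hpV hVU using hc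
  refine TopCat.Sheaf.eq_of_locally_eq' X.sheaf V U (fun p => homOfLE (hVU p))
    (fun z hz => Opens.mem_iSup.2 ⟨⟨z, hz⟩, hpV ⟨z, hz⟩⟩) _ _ fun p => ?_
  refine Eq.trans ?_ (map_zero (X.sheaf.obj.map (homOfLE (hVU p)).op).hom).symm
  exact hinj (V p) (hV p) _ (app_res_eq_zero i (hVU p) (by rw [map_sub, map_one, h1, sub_self]))

/-- With nothing killed by `ib`, the kernel of a step is the quotient. -/
theorem nonempty_ku_iso (h : Step ia ib i₀ τ) [IsClosedImmersion i₀] (hb : IsZero (Ku ib)) :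
    Nonempty (Ku ia ≅ (CohTop.push i₀.base).obj (addSh Z₀)) := by
  obtain ⟨e⟩ := nonempty_quot_iso h
  have := (ku_shortExact h).epi_g
  have : Balanced (CohTop.Ab X.toTopCat) := inferInstance
  have : Mono (theta h) := (ku_shortExact h).exact.mono_g (hb.eq_of_src _ _)
  have : IsIso (theta h) := isIso_of_mono_of_epi _
  exact ⟨asIso (theta h) ≪≫ e⟩

end Groth.Agent.UnitsLib
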