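import Groth.Agent.UnitsLib.Thick
import Groth.Prelude.Def_ClSub2
import Groth.Agent.QCoh.ToSheaf

/-!
# The units sequence of a square-zero ideal
-/

universe u

open CategoryTheory CategoryTheory.Limits AlgebraicGeometry Opposite TopologicalSpace

noncomputable section

set_option autoImplicit false
set_option maxHeartbeats 400000
set_option synthInstance.maxHeartbeats 100000
set_option backward.isDefEq.respectTransparency false
set_option backward.isDefEq.respectTransparency.types false

namespace Groth.Agent.UnitsLib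

variable {X : Scheme.{u}} (J : X.IdealSheafData)

/-- A section of the ideal module as a function. -/
def jval {U : X.Opens} (f : (Coh.toAb (ClSub.idealMod J)).obj.obj (op U)) : Γ(X, U) :=
  ((QCoh.toAbFunctor X).map (ClSub.idealModι J)).hom.app (op U) f

theorem toSheaf_toSubscheme :
    (QCoh.toAbFunctor X).map (ClSub.toSubscheme J) = addComap J.subschemeι := rfl

theorem jmap_comp :
    (QCoh.toAbFunctor X).map (ClSub.idealModι J) ≫ addComap J.subschemeι = 0 := by
  rw [← toSheaf_toSubscheme]
  exact ((QCoh.toAbFunctor X).map_comp (ClSub.idealModι J) (ClSub.toSubscheme J)).symm.trans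
    ((congrArg (fun φ => (QCoh.toAbFunctor X).map φ) (kernel.condition (ClSub.toSubscheme J))).trans
      (Functor.map_zero _ _ _))

/-- The ideal module is the additive kernel. -/
def jIsKernel : IsLimit (KernelFork.ofι ((QCoh.toAbFunctor X).map (ClSub.idealModι J))
    (jmap_comp J)) :=
  KernelFork.mapIsLimit _ (kernelIsKernel (ClSub.toSubscheme J)) (QCoh.toAbFunctor X)

theorem app_jval {U : X.Opens} (f : (Coh.toAb (ClSub.idealMod J)).obj.obj (op U)) :
    J.subschemeι.app U (jval J f) = 0 :=
  ConcreteCategory.congr_hom (congrArg (fun φ => (secF U).map φ) (jmap_comp J)) f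

theorem jval_injective {U : X.Opens} : Function.Injective (jval J (U := U)) := by
  have : Mono ((QCoh.toAbFunctor X).map (ClSub.idealModι J)) :=
    mono_of_isLimit_fork (jIsKernel J)
  have : Mono ((secF U).map ((QCoh.toAbFunctor X).map (ClSub.idealModι J))) := inferInstance
  exact (AddCommGrpCat.mono_iff_injective _).1 this

theorem exists_jval {U : X.Opens} (x : Γ(X, U)) (hx : J.subschemeι.app U x = 0) :
    ∃ f : (Coh.toAb (ClSub.idealMod J)).obj.obj (op U), jval J f = x := by
  let S : ShortComplex (CohTop.Ab X.toTopCat) :=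
    ShortComplex.mk ((QCoh.toAbFunctor X).map (ClSub.idealModι J))
      (addComap J.subschemeι) (jmap_comp J)
  have hS : (S.map (secF U)).Exact :=
    ShortComplex.exact_of_f_is_kernel _ (KernelFork.mapIsLimit _ (jIsKernel J) (secF U))
  exact (ShortComplex.ab_exact_iff _).1 hS x hx

variable (hJ : J * J = ⊥)

include hJ in
theorem mul_eq_zero_of_sq {U : X.Opens} (x y : Γ(X, U)) (hx : J.subschemeι.app U x = 0)
    (hy : J.subschemeι.app U y = 0) : x * y = 0 := by
  have hc : ∀ p : U, ∃ V : X.Opens, IsAffineOpen V ∧ p.1 ∈ V ∧ V ≤ U := fun p => by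
    obtain ⟨V, hV, hpV, hVU⟩ := exists_isAffineOpen_mem_and_subset p.2
    exact ⟨V, hV, hpV, hVU⟩
  choose V hV hpV hVU using hc
  refine TopCat.Sheaf.eq_of_locally_eq' X.sheaf V U (fun p => homOfLE (hVU p))
    (fun z hz => Opens.mem_iSup.2 ⟨⟨z, hz⟩, hpV ⟨z, hz⟩⟩) _ _ fun p => ?_
  refine Eq.trans ?_ (map_zero (X.sheaf.obj.map (homOfLE (hVU p)).op).hom).symm
  refine (map_mul (X.presheaf.map (homOfLE (hVU p)).op).hom x y).trans ?_
  have h1 : ∀ z, J.subschemeι.app U z = 0 →
      X.presheaf.map (homOfLE (hVU p)).op z ∈ J.ideal ⟨V p, hV p⟩ := fun z hz => by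
    rw [← J.ker_subschemeι_app ⟨V p, hV p⟩]
    exact app_res_eq_zero J.subschemeι (hVU p) hz
  have h2 := Ideal.mul_mem_mul (h1 x hx) (h1 y hy)
  have h3 : J.ideal ⟨V p, hV p⟩ * J.ideal ⟨V p, hV p⟩ = ⊥ := by
    have := congrArg (fun I : X.IdealSheafData => I.ideal ⟨V p, hV p⟩) hJ
    simpa using this
  rw [h3] at h2
  exact h2

/-- `f ↦ 1 + f` on the sections over one open. -/
def onePlusHom (U : X.Opens) :
    (Coh.toAb (ClSub.idealMod J)).obj.obj (op U) →+ (UnitsSh.unitsAb X).obj.obj (op U) :=
  AddMonoidHom.mk'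
    (fun f => UnitsSh.sectOfUnit (O := X.presheaf) (U := op U)
      { val := 1 + jval J f
        inv := 1 - jval J f
        val_inv := by linear_combination -(mul_eq_zero_of_sq J hJ _ _ (app_jval J f) (app_jval J f))
        inv_val := by linear_combination -(mul_eq_zero_of_sq J hJ _ _ (app_jval J f) (app_jval J f)) })
    (fun f g => valU_injective (by
      show 1 + jval J (f + g) = (1 + jval J f) * (1 + jval J g)
      have := mul_eq_zero_of_sq J hJ _ _ (app_jval J f) (app_jval J g)
      rw [jval, map_add]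
      show 1 + (jval J f + jval J g) = _
      linear_combination -this))

theorem valU_onePlus {U : X.Opens} (f : (Coh.toAb (ClSub.idealMod J)).obj.obj (op U)) :
    valU (onePlusHom J hJ U f) = 1 + jval J f := rfl

/-- `f ↦ 1 + f`. -/
def onePlus : Coh.toAb (ClSub.idealMod J) ⟶ UnitsSh.unitsAb X :=
  ⟨{ app := fun U => AddCommGrpCat.ofHom (onePlusHom J hJ U.unop)
     naturality := fun U V f => AddCommGrpCat.hom_ext (AddMonoidHom.ext fun x => valU_injective (by
       refine (valU_onePlus J hJ _).trans ?_
       refine Eq.trans ?_ (valU_res (X := X) f.unop.le (onePlusHom J hJ U.unop x)).symm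
       rw [valU_onePlus]
       refine Eq.trans ?_ (map_add (X.presheaf.map (homOfLE f.unop.le).op).hom 1 _).symm
       rw [map_one]
       refine congrArg (1 + ·) ?_
       exact app_res ((QCoh.toAbFunctor X).map (ClSub.idealModι J)) f.unop.le x)) }⟩

theorem onePlus_comap : onePlus J hJ ≫ UnitsSh.comap J.subschemeι = 0 :=
  shExt fun U f => (comap_eq_zero_iff J.subschemeι _).2 (by
    show J.subschemeι.app U (1 + jval J f) = 1
    rw [map_add, map_one, app_jval, add_zero])

theorem onePlus_shortExact :
    (ShortComplex.mk (onePlus J hJ) (UnitsSh.comap J.subschemeι) (onePlus_comap J hJ)).ShortExact := by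
  refine TopVanish.shortExact_of_local _ (fun U a ha => ?_) (fun U b hb x hx => ⟨U, le_rfl, hx, ?_⟩)
    (fun U c x hx => ?_)
  · refine jval_injective J (Eq.trans ?_ (map_zero ((secF U).map
      ((QCoh.toAbFunctor X).map (ClSub.idealModι J))).hom).symm)
    have : 1 + jval J a = 1 := congrArg (valU (X := X) (U := U)) ha
    exact add_left_cancel (this.trans (add_zero 1).symm)
  · obtain ⟨f, hf⟩ := exists_jval J (valU b - 1) (by
      rw [map_sub, map_one, (comap_eq_zero_iff J.subschemeι b).1 hb, sub_self])
    refine ⟨f, valU_injective ?_⟩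
    refine Eq.trans ?_ (congrArg valU (?_ : b = _))
    · show 1 + jval J f = _
      rw [hf, add_sub_cancel]
    · simp
  · obtain ⟨V, hVU, hxV, hV⟩ := exists_affine (X := X) hx
    have hnil : ∀ W : X.Opens, IsAffineOpen W → ∀ z : Γ(X, W), J.subschemeι.app W z = 0 → IsNilpotent z :=
      fun W _ z hz => ⟨2, by rw [pow_two, mul_eq_zero_of_sq J hJ z z hz hz]⟩
    have := (units_shortExact J.subschemeι hnil).epi_g
    have : Sheaf.IsLocallySurjective (UnitsSh.comap J.subschemeι) :=
      (Sheaf.isLocallySurjective_iff_epi' AddCommGrpCat.{u} _).2 inferInstance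
    obtain ⟨W, g, ⟨b, hb⟩, hxW⟩ := Presheaf.imageSieve_mem (Opens.grothendieckTopology X.toTopCat)
      (UnitsSh.comap J.subschemeι).hom c x hx
    exact ⟨W, g.le, hxW, b, hb⟩

end Groth.Agent.UnitsLib
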