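import Groth.Agent.UnitsLib.Artin
import Groth.Agent.AssLib.FlatField

/-!
# Units of `X₀[ε]`
-/

universe u

open CategoryTheory CategoryTheory.Limits AlgebraicGeometry Opposite TopologicalSpace DualNumber

noncomputable section

set_option autoImplicit false
set_option maxHeartbeats 400000
set_option synthInstance.maxHeartbeats 100000
set_option backward.isDefEq.respectTransparency false
set_option backward.isDefEq.respectTransparency.types false

namespace Groth.Agent.UnitsLib

/-- A scheme retraction of a surjective closed immersion gives a section on units. -/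
def unitsSection {X Z : Scheme.{u}} (i : Z ⟶ X) (r : X ⟶ Z) (hle : ∀ V : X.Opens, V ≤ r ⁻¹ᵁ (i ⁻¹ᵁ V)) :
    (CohTop.push i.base).obj (UnitsSh.unitsAb Z) ⟶ UnitsSh.unitsAb X :=
  ⟨{ app := fun V => UnitsSh.unitsFunctor.map (r.appLE (i ⁻¹ᵁ V.unop) V.unop (hle _))
     naturality := fun U V f => by
       show UnitsSh.unitsFunctor.map _ ≫ UnitsSh.unitsFunctor.map _ =
         UnitsSh.unitsFunctor.map _ ≫ UnitsSh.unitsFunctor.map _
       rw [← UnitsSh.unitsFunctor.map_comp, ← UnitsSh.unitsFunctor.map_comp]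
       congr 1
       show Z.presheaf.map _ ≫ _ = _ ≫ X.presheaf.map _
       rw [Scheme.Hom.map_appLE, Scheme.Hom.appLE_map] }⟩

theorem unitsSection_comap {X Z : Scheme.{u}} (i : Z ⟶ X) (r : X ⟶ Z)
    (hle : ∀ V : X.Opens, V ≤ r ⁻¹ᵁ (i ⁻¹ᵁ V)) (hir : i ≫ r = 𝟙 Z) :
    unitsSection i r hle ≫ UnitsSh.comap i = 𝟙 _ := by
  apply Sheaf.hom_ext
  apply NatTrans.ext
  funext V
  show UnitsSh.unitsFunctor.map (r.appLE (i ⁻¹ᵁ V.unop) V.unop (hle _)) ≫
    UnitsSh.unitsFunctor.map (i.app V.unop) = 𝟙 (UnitsSh.unitsFunctor.obj Γ(Z, i ⁻¹ᵁ V.unop))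
  rw [← Functor.map_comp, ← UnitsSh.unitsFunctor.map_id]
  congr 1
  have key : ∀ (φ : Z ⟶ Z), φ = 𝟙 Z → ∀ (U : Z.Opens) (h : U ≤ φ ⁻¹ᵁ U), φ.appLE U U h = 𝟙 _ := by
    rintro _ rfl U h
    simp only [Scheme.Hom.appLE, Scheme.Hom.id_app, Category.id_comp]
    exact Z.presheaf.map_id _
  rw [Scheme.Hom.app_eq_appLE, Scheme.Hom.appLE_comp_appLE]
  exact key _ hir _ _

variable {k : Type u} [Field k]

theorem dual_nil (x : DualNumber k) (hx : TrivSqZeroExt.fst x = 0) : IsNilpotent x := by
  refine ⟨2, ?_⟩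
  rw [pow_two]
  ext <;> simp [hx]

theorem dual_ker : RingHom.ker (TrivSqZeroExt.fstHom k k k).toRingHom = Ideal.span {(ε : DualNumber k)} := by
  ext x
  rw [RingHom.mem_ker, Ideal.mem_span_singleton']
  constructor
  · intro hx
    refine ⟨TrivSqZeroExt.inl (TrivSqZeroExt.snd x), ?_⟩
    have hx' : TrivSqZeroExt.fst x = 0 := hx
    ext <;> simp [hx']
  · rintro ⟨a, rfl⟩
    show TrivSqZeroExt.fst (a * ε) = 0
    simp

theorem dual_colon (x : DualNumber k) : x * ε ∈ (⊥ : Ideal (DualNumber k)) ↔ TrivSqZeroExt.fst x = 0 := by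
  rw [Ideal.mem_bot]
  constructor
  · intro h
    simpa using congrArg TrivSqZeroExt.snd h
  · intro h
    ext <;> simp [h]

theorem nonempty_ker_equiv (X₀ : Scheme.{u}) (f : X₀ ⟶ Spec (CommRingCat.of k)) (q : ℕ) :
    let e := Spec.map (CommRingCat.ofHom (algebraMap k (DualNumber k)))
    let e₀ := Spec.map (CommRingCat.ofHom (TrivSqZeroExt.fstHom k k k).toRingHom)
    Nonempty ((Sheaf.H.map (UnitsSh.comap (pullback.fst (pullback.snd f e) e₀)) q).ker ≃+
      Coh.HH (pullback (pullback.snd f e) e₀) (Coh.structureModule _) q) := by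
  intro e e₀
  let g : CommRingCat.of (DualNumber k) ⟶ CommRingCat.of k :=
    CommRingCat.ofHom (TrivSqZeroExt.fstHom k k k).toRingHom
  let p := pullback.snd f e
  have : Flat f := AssLib.flat_over_field f
  have : Flat p := inferInstanceAs (Flat (pullback.snd f e))
  have hg : Function.Surjective g.hom := fun y => ⟨TrivSqZeroExt.inl y, rfl⟩
  have hstep := (step_of_ideals p g hg (Ideal.span {(ε : DualNumber k)}) ⊥ ε (bot_sup_eq _).symm
    (fun x hx => dual_nil x (by rw [← dual_ker] at hx; exact hx))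
    (by rw [Ideal.span_singleton_mul_span_singleton, DualNumber.eps_mul_eps, Ideal.span_singleton_le_iff_mem]
        exact Submodule.zero_mem _)
    (fun x => dual_colon x)).congr_left (ia' := pullback.fst p (Spec.map g)) fun V hV x => by
      rw [app_pullback_fst_eq_zero_iff p g hg hV, app_base_eq_zero_iff p _ hV]
      exact Iff.of_eq (congrArg (fun I => x ∈ Ideal.map (str p V) I) dual_ker)
  have := isClosedImmersion_fst p g hg
  obtain ⟨e₁⟩ := nonempty_ku_iso hstep (isZero_ku _ (base_bot_injective p))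
  obtain ⟨e₂⟩ := nonempty_H_push_equiv (pullback.fst p (Spec.map g)) q
  have hS := units_shortExact_of_nil p g hg dual_nil
  -- the retraction `X₀[ε] ⟶ X₀ ≅ X`
  let i := pullback.fst p (Spec.map g)
  have hid : Spec.map g ≫ e = 𝟙 _ := by
    rw [← Spec.map_comp, ← Spec.map_id]
    congr 1
  have : IsIso (i ≫ pullback.fst f e) := by
    have hflip := (IsPullback.of_hasPullback p (Spec.map g)).paste_horiz (IsPullback.of_hasPullback f e)
    exact hflip.isIso_fst_of_isIso (by rw [hid]; infer_instance)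
  let r : pullback f e ⟶ pullback p (Spec.map g) := pullback.fst f e ≫ inv (i ≫ pullback.fst f e)
  have hir : i ≫ r = 𝟙 _ := by
    rw [← Category.assoc]; exact IsIso.hom_inv_id _
  have hsurj : Surjective i := by
    have : Surjective (Spec.map g) := ⟨by
      intro y
      have : y ∈ Set.range (PrimeSpectrum.comap g.hom) := by
        rw [range_comap_of_surjective _ _ hg]
        intro x hx
        exact nilradical_le_prime y.asIdeal (mem_nilradical.2 (dual_nil x hx))
      exact this⟩
    exact MorphismProperty.pullback_fst _ _ this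
  have hle : ∀ V : Scheme.Opens (pullback f e), V ≤ r ⁻¹ᵁ (i ⁻¹ᵁ V) := fun V y hy => by
    obtain ⟨z, rfl⟩ := i.surjective y
    show i ((i ≫ r) z) ∈ V
    rw [hir]
    exact hy
  have hinj := H_injective_of_section hS (unitsSection i r hle) (unitsSection_comap i r hle hir) q
  have hker : (Sheaf.H.map (kernel.ι (UnitsSh.comap i)) q).range = (Sheaf.H.map (UnitsSh.comap i) q).ker := by
    refine le_antisymm ?_ fun x hx => H_exact hS q x hx
    rintro _ ⟨y, rfl⟩
    show (y.comp (Abelian.Ext.mk₀ (kernel.ι (UnitsSh.comap i))) (add_zero q)).comp (Abelian.Ext.mk₀ (UnitsSh.comap i)) (add_zero q) = 0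
    rw [Abelian.Ext.comp_assoc_of_second_deg_zero, Abelian.Ext.mk₀_comp_mk₀, kernel.condition,
      Abelian.Ext.mk₀_zero, Abelian.Ext.comp_zero]
  exact ⟨((AddEquiv.addSubgroupCongr hker).symm.trans (AddMonoidHom.ofInjective hinj).symm).trans
    ((Hiso e₁ q).trans e₂)⟩

end Groth.Agent.UnitsLib
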