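import Groth.Agent.UnitsLib.Flat
import Groth.Agent.UnitsLib.Coh
import Mathlib.RingTheory.Artinian.Ring
import Mathlib.RingTheory.Nakayama
import Mathlib.RingTheory.DualNumber
import Mathlib.RingTheory.LocalRing.ResidueField.Basic

/-!
# Units along ideals of a local ring
-/

universe u

open CategoryTheory CategoryTheory.Limits AlgebraicGeometry Opposite TopologicalSpace

noncomputable section

set_option autoImplicit false
set_option maxHeartbeats 400000
set_option synthInstance.maxHeartbeats 100000
set_option backward.isDefEq.respectTransparency false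
set_option backward.isDefEq.respectTransparency.types false

namespace Groth.Agent.UnitsLib

theorem Step.congr_left {X Za Za' Zb Z₀ : Scheme.{u}} {ia : Za ⟶ X} {ia' : Za' ⟶ X} {ib : Zb ⟶ X}
    {i₀ : Z₀ ⟶ X} {τ : Γ(X, ⊤)} (h : Step ia ib i₀ τ)
    (e : ∀ V : X.Opens, IsAffineOpen V → ∀ x, ia'.app V x = 0 ↔ ia.app V x = 0) : Step ia' ib i₀ τ where
  le V hV x hx := (e V hV x).2 (h.le V hV x hx)
  nil V hV x hx := h.nil V hV x ((e V hV x).1 hx)
  sq V hV x y hx hy := h.sq V hV x y ((e V hV x).1 hx) ((e V hV y).1 hy)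
  tau_mem V hV := (e V hV _).2 (h.tau_mem V hV)
  gen V hV x hx := h.gen V hV x ((e V hV x).1 hx)
  colon := h.colon

variable {A : Type u} [CommRing A] {X : Scheme.{u}} (p : X ⟶ Spec (CommRingCat.of A))

theorem isClosedImmersion_fst {A' : CommRingCat.{u}} (g : CommRingCat.of A ⟶ A')
    (hg : Function.Surjective g.hom) : IsClosedImmersion (pullback.fst p (Spec.map g)) :=
  have : IsClosedImmersion (Spec.map g) := IsClosedImmersion.spec_of_surjective g hg
  inferInstance

theorem units_shortExact_of_nil {A' : CommRingCat.{u}} (g : CommRingCat.of A ⟶ A')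
    (hg : Function.Surjective g.hom) (hnil : ∀ x, g x = 0 → IsNilpotent x) :
    (ShortComplex.mk (kernel.ι (UnitsSh.comap (pullback.fst p (Spec.map g))))
      (UnitsSh.comap (pullback.fst p (Spec.map g))) (kernel.condition _)).ShortExact := by
  have := isClosedImmersion_fst p g hg
  refine units_shortExact _ fun V hV x hx => ?_
  rw [app_pullback_fst_eq_zero_iff p g hg hV] at hx
  have hle : (RingHom.ker g.hom).map (str p V) ≤ nilradical Γ(X, V) := Ideal.map_le_iff_le_comap.2
    fun y hy => Ideal.mem_comap.2 (mem_nilradical.2 ((hnil y hy).map (str p V)))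
  exact mem_nilradical.1 (hle hx)

variable [IsLocalRing A]

/-- Below a nonzero finitely generated ideal in the radical there is one of colength one. -/
theorem exists_colength_one [IsNoetherianRing A] (a : Ideal A) (ha : a ≤ IsLocalRing.maximalIdeal A)
    (h0 : a ≠ ⊥) : ∃ (b : Ideal A) (t : A), b < a ∧ a = b ⊔ Ideal.span {t} ∧ a * a ≤ b ∧
      ∀ x, x * t ∈ b ↔ IsLocalRing.residue A x = 0 := by
  set m := IsLocalRing.maximalIdeal A
  have hlt : m * a < a := by
    refine lt_of_le_of_ne Ideal.mul_le_right fun he => h0 ?_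
    exact Submodule.eq_bot_of_le_smul_of_le_jacobson_bot m a (IsNoetherian.noetherian a)
      (by rw [smul_eq_mul, he]) (IsLocalRing.maximalIdeal_le_jacobson _)
  obtain ⟨b, ⟨hb₁, hb₂⟩, hmax⟩ := set_has_maximal_iff_noetherian.2 inferInstance
    {b : Ideal A | m * a ≤ b ∧ b < a} ⟨m * a, le_rfl, hlt⟩
  obtain ⟨t, hta, htb⟩ := SetLike.exists_of_lt hb₂
  have hmt : ∀ x ∈ m, x * t ∈ b := fun x hx => hb₁ (Ideal.mul_mem_mul hx hta)
  refine ⟨b, t, hb₂, ?_, (Ideal.mul_mono_left ha).trans hb₁, fun x => ?_⟩
  · refine le_antisymm ?_ (sup_le hb₂.le ((Ideal.span_singleton_le_iff_mem a).2 hta))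
    by_contra hc
    have hle : b ⊔ Ideal.span {t} ≤ a := sup_le hb₂.le ((Ideal.span_singleton_le_iff_mem a).2 hta)
    have h1 : ¬ b < b ⊔ Ideal.span {t} :=
      hmax _ ⟨hb₁.trans le_sup_left, lt_of_le_not_ge hle hc⟩
    exact h1 (lt_of_le_of_ne le_sup_left fun he => htb
      (he ▸ Ideal.mem_sup_right (Ideal.mem_span_singleton_self t)))
  · rw [IsLocalRing.residue_eq_zero_iff]
    refine ⟨fun h => ?_, hmt x⟩
    by_contra hc
    obtain ⟨y, hy⟩ := (IsLocalRing.notMem_maximalIdeal.1 hc).exists_left_inv
    exact htb (by have := Ideal.mul_mem_left b y h; rwa [← mul_assoc, hy, one_mul] at this)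

/-- Vanishing of `H^n` of the unit kernel of any ideal in the maximal ideal of an Artinian ring. -/
theorem subsingleton_H_ku_of_artin [IsArtinianRing A] [Flat p] (n : ℕ)
    (h₀ : Subsingleton (Coh.HH (pullback p (Spec.map (CommRingCat.ofHom (IsLocalRing.residue A))))
      (Coh.structureModule _) n)) (a : Ideal A) (ha : a ≤ IsLocalRing.maximalIdeal A) :
    Subsingleton (CohTop.H (Ku (base p a)) n) := by
  induction a using WellFoundedLT.induction with
  | ind a ih =>
    rcases eq_or_ne a ⊥ with rfl | h0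
    · exact H_subsingleton_of_isZero (isZero_ku _ (base_bot_injective p)) n
    · obtain ⟨b, t, hlt, hab, hsq, hcol⟩ := exists_colength_one a ha h0
      have hnil : ∀ x ∈ a, IsNilpotent x := fun x hx => by
        obtain ⟨k, hk⟩ := IsArtinianRing.isNilpotent_jacobson_bot (R := A)
        refine ⟨k, Ideal.mem_bot.1 ?_⟩
        rw [← Ideal.zero_eq_bot, ← hk]
        exact Ideal.pow_mem_pow (IsLocalRing.maximalIdeal_le_jacobson _ (ha hx)) k
      have hres : Function.Surjective (CommRingCat.ofHom (IsLocalRing.residue A)).hom :=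
        IsLocalRing.residue_surjective
      have hstep := step_of_ideals p (CommRingCat.ofHom (IsLocalRing.residue A)) hres a b t hab hnil hsq hcol
      have := isClosedImmersion_fst p (CommRingCat.ofHom (IsLocalRing.residue A)) hres
      exact subsingleton_H_ku hstep n (ih b hlt (hlt.le.trans ha)) h₀

end Groth.Agent.UnitsLib
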