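import Groth.Agent.UnitsLib.Thick
import Mathlib.AlgebraicGeometry.Morphisms.Flat
import Mathlib.RingTheory.Flat.EquationalCriterion

/-!
# Base change of ideals along a flat scheme over a ring, on affine opens
-/

universe u

open CategoryTheory CategoryTheory.Limits AlgebraicGeometry Opposite TopologicalSpace

noncomputable section

set_option autoImplicit false
set_option maxHeartbeats 400000
set_option backward.isDefEq.respectTransparency false
set_option backward.isDefEq.respectTransparency.types false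

namespace Groth.Agent.UnitsLib

/-- In a pushout along a surjection the kernel is the extended ideal. -/
theorem ker_inl_of_isPushout {A B C P : CommRingCat.{u}} {f : A ⟶ B} {g : A ⟶ C} {inl : B ⟶ P}
    {inr : C ⟶ P} (h : IsPushout f g inl inr) (hg : Function.Surjective g.hom) :
    RingHom.ker inl.hom = (RingHom.ker g.hom).map f.hom := by
  apply le_antisymm
  · intro x hx
    let c := (RingHom.ker g.hom).map f.hom
    let q : B ⟶ CommRingCat.of (B ⧸ c) := CommRingCat.ofHom (Ideal.Quotient.mk c)
    have hk : RingHom.ker g.hom ≤ RingHom.ker ((Ideal.Quotient.mk c).comp f.hom) := fun a ha =>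
      Ideal.Quotient.eq_zero_iff_mem.2 (Ideal.mem_map_of_mem _ ha)
    let q' : C ⟶ CommRingCat.of (B ⧸ c) :=
      CommRingCat.ofHom ((g.hom.liftOfSurjective hg) ⟨_, hk⟩)
    have hw : f ≫ q = g ≫ q' := by
      ext a
      exact (g.hom.liftOfRightInverse_comp_apply _ (Function.rightInverse_surjInv hg) ⟨_, hk⟩ a).symm
    have hd : inl ≫ h.desc q q' hw = q := h.inl_desc _ _ _
    refine Ideal.Quotient.eq_zero_iff_mem.1 ?_
    show q x = 0
    rw [← hd, ConcreteCategory.comp_apply, show inl x = 0 from hx]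
    exact map_zero _
  · rw [Ideal.map_le_iff_le_comap]
    intro a ha
    show inl (f a) = 0
    rw [← ConcreteCategory.comp_apply, h.w, ConcreteCategory.comp_apply, show g a = 0 from ha]
    exact map_zero _

variable {A : Type u} [CommRing A] {X : Scheme.{u}} (p : X ⟶ Spec (CommRingCat.of A))

/-- The base change of `A ⟶ A/c`. -/
abbrev base (c : Ideal A) := pullback.fst p (Spec.map (CommRingCat.ofHom (Ideal.Quotient.mk c)))

/-- The structure map into functions on an open. -/
def str (V : X.Opens) : A →+* Γ(X, V) :=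
  (p.appLE ⊤ V le_top).hom.comp (Scheme.ΓSpecIso (CommRingCat.of A)).inv.hom

theorem str_res {U V : X.Opens} (h : V ≤ U) (a : A) :
    X.presheaf.map (homOfLE h).op (str p U a) = str p V a := by
  show (p.appLE ⊤ U le_top ≫ X.presheaf.map (homOfLE h).op) _ = _
  rw [Scheme.Hom.appLE_map]
  rfl

/-- Kernel of a base change along a closed immersion of affine schemes, on an affine open. -/
theorem app_pullback_fst_eq_zero_iff {A' : CommRingCat.{u}} (g : CommRingCat.of A ⟶ A')
    (hg : Function.Surjective g.hom) {V : X.Opens} (hV : IsAffineOpen V) (x : Γ(X, V)) :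
    (pullback.fst p (Spec.map g)).app V x = 0 ↔ x ∈ (RingHom.ker g.hom).map (str p V) := by
  have H := IsPullback.of_hasPullback p (Spec.map g)
  have hUY : (pullback.fst p (Spec.map g)) ⁻¹ᵁ V =
      pullback.fst p (Spec.map g) ⁻¹ᵁ V ⊓ pullback.snd p (Spec.map g) ⁻¹ᵁ ⊤ := by simp
  have hiso := isIso_pushoutSection_of_isAffineOpen H (US := ⊤) (UT := ⊤) (UX := V) le_top le_top hUY
    (isAffineOpen_top _) (isAffineOpen_top _) hV
  have hpo := (isIso_pushoutSection_iff ..).1 hiso
  have hker := ker_inl_of_isPushout hpo (by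
    intro y
    obtain ⟨a, ha⟩ := hg ((Scheme.ΓSpecIso A').hom y)
    refine ⟨(Scheme.ΓSpecIso (CommRingCat.of A)).inv a, ?_⟩
    apply (ConcreteCategory.bijective_of_isIso (Scheme.ΓSpecIso A').hom).1
    rw [← ha, ← ConcreteCategory.comp_apply, ← ConcreteCategory.comp_apply]
    congr 1
    simp [Scheme.Hom.appLE, Scheme.ΓSpecIso_naturality, Scheme.Hom.appTop])
  have hx : (pullback.fst p (Spec.map g)).app V x = 0 ↔
      x ∈ RingHom.ker ((pullback.fst p (Spec.map g)).appLE V _ (le_of_eq rfl)).hom := by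
    rw [RingHom.mem_ker, Scheme.Hom.app_eq_appLE]
  rw [hx, hker]
  suffices h : RingHom.ker ((Spec.map g).appLE ⊤ ⊤ le_top).hom =
      (RingHom.ker g.hom).map (Scheme.ΓSpecIso (CommRingCat.of A)).inv.hom by
    rw [h, Ideal.map_map]
    rfl
  have hnat : (Scheme.ΓSpecIso (CommRingCat.of A)).inv ≫ (Spec.map g).appLE ⊤ ⊤ le_top =
      g ≫ (Scheme.ΓSpecIso A').inv := by
    simp [Scheme.Hom.appLE, Scheme.ΓSpecIso_inv_naturality, Scheme.Hom.appTop]
  ext y
  constructor
  · intro hy
    have hy' : y = (Scheme.ΓSpecIso (CommRingCat.of A)).inv ((Scheme.ΓSpecIso (CommRingCat.of A)).hom y) := by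
      rw [← ConcreteCategory.comp_apply, Iso.hom_inv_id]; rfl
    rw [hy']
    refine Ideal.mem_map_of_mem _ ?_
    apply (ConcreteCategory.bijective_of_isIso (Scheme.ΓSpecIso A').inv).1
    refine Eq.trans ?_ (map_zero (Scheme.ΓSpecIso A').inv.hom).symm
    show (g ≫ (Scheme.ΓSpecIso A').inv) _ = 0
    rw [← hnat, ConcreteCategory.comp_apply, ← hy']
    exact hy
  · intro hy
    refine (Ideal.map_le_iff_le_comap.2 fun a ha => ?_) hy
    show ((Scheme.ΓSpecIso (CommRingCat.of A)).inv ≫ (Spec.map g).appLE ⊤ ⊤ le_top) a = 0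
    rw [hnat, ConcreteCategory.comp_apply, show g a = 0 from ha]
    exact map_zero _

theorem app_base_eq_zero_iff (c : Ideal A) {V : X.Opens} (hV : IsAffineOpen V) (x : Γ(X, V)) :
    (base p c).app V x = 0 ↔ x ∈ c.map (str p V) := by
  rw [app_pullback_fst_eq_zero_iff p (CommRingCat.ofHom (Ideal.Quotient.mk c))
    Ideal.Quotient.mk_surjective hV x]
  rw [show RingHom.ker (CommRingCat.ofHom (Ideal.Quotient.mk c)).hom = c from Ideal.mk_ker]

theorem str_flat [Flat p] {V : X.Opens} (hV : IsAffineOpen V) : (str p V).Flat := by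
  have h1 : (p.appLE ⊤ V le_top).hom.Flat := p.flat_appLE (isAffineOpen_top _) hV le_top
  exact RingHom.Flat.comp (RingHom.Flat.of_bijective
    (ConcreteCategory.bijective_of_isIso (Scheme.ΓSpecIso (CommRingCat.of A)).inv)) h1

/-- Flat extension commutes with colon by an element. -/
theorem mem_map_colon {B : Type u} [CommRing B] {f : A →+* B} (hf : f.Flat) (b m : Ideal A) (t : A)
    (hm : ∀ a, a * t ∈ b → a ∈ m) {x : B} (hx : x * f t ∈ b.map f) : x ∈ m.map f := by
  algebraize [f]
  obtain ⟨n, c, hc⟩ : ∃ (n : ℕ) (w : Fin n → b × B), x * f t = ∑ j, f (w j).1 * (w j).2 := by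
    have : b.map f = Ideal.span (f '' b) := rfl
    rw [this, Ideal.span, Submodule.mem_span_set'] at hx
    obtain ⟨n, r, g, hg⟩ := hx
    choose a ha hfa using fun j => (g j).2
    exact ⟨n, fun j => (⟨a j, ha j⟩, r j), hg.symm.trans (Finset.sum_congr rfl fun j _ => by
      rw [hfa j, smul_eq_mul, mul_comm])⟩
  let F : Option (Fin n) → A := fun o => o.elim t fun j => -((c j).1 : A)
  let Y : Option (Fin n) → B := fun o => o.elim x fun j => (c j).2
  have h0 : ∑ o, F o • Y o = 0 := by
    rw [Fintype.sum_option]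
    simp only [F, Y, Option.elim, Algebra.smul_def, RingHom.algebraMap_toAlgebra, map_neg, neg_mul,
      Finset.sum_neg_distrib]
    rw [← hc, mul_comm]
    exact add_neg_cancel _
  obtain ⟨k, a, y, hy, ha⟩ := Module.Flat.isTrivialRelation_of_sum_smul_eq_zero h0
  have hx' := hy none
  simp only [Y, Option.elim, Algebra.smul_def, RingHom.algebraMap_toAlgebra] at hx'
  rw [hx']
  refine Ideal.sum_mem _ fun l _ => Ideal.mul_mem_right _ _ (Ideal.mem_map_of_mem _ (hm _ ?_))
  have := ha l
  rw [Fintype.sum_option] at this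
  simp only [F, Option.elim, neg_mul, Finset.sum_neg_distrib, add_neg_eq_zero] at this
  rw [mul_comm, this]
  exact b.sum_mem fun j _ => b.mul_mem_right _ (c j).1.2

/-- The steps attached to ideals of `A`. -/
theorem step_of_ideals [Flat p] {A' : CommRingCat.{u}} (g : CommRingCat.of A ⟶ A')
    (hg : Function.Surjective g.hom) (a b : Ideal A) (t : A) (hab : a = b ⊔ Ideal.span {t})
    (hnil : ∀ x ∈ a, IsNilpotent x) (hsq : a * a ≤ b) (hcolon : ∀ x, x * t ∈ b ↔ g x = 0) :
    Step (base p a) (base p b) (pullback.fst p (Spec.map g)) (str p ⊤ t) := by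
  have hmap : ∀ V : X.Opens, a.map (str p V) = b.map (str p V) ⊔ Ideal.span {str p V t} := fun V => by
    rw [hab, Ideal.map_sup, Ideal.map_span, Set.image_singleton]
  have hτ : ∀ V : X.Opens, τres (str p ⊤ t) V = str p V t := fun V => str_res p le_top t
  constructor
  · intro V hV x hx
    rw [app_base_eq_zero_iff p _ hV] at hx ⊢
    rw [hmap]
    exact Ideal.mem_sup_left hx
  · intro V hV x hx
    rw [app_base_eq_zero_iff p _ hV] at hx
    have hle : a.map (str p V) ≤ nilradical Γ(X, V) := Ideal.map_le_iff_le_comap.2 fun y hy =>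
      Ideal.mem_comap.2 (mem_nilradical.2 ((hnil y hy).map (str p V)))
    exact mem_nilradical.1 (hle hx)
  · intro V hV x y hx hy
    rw [app_base_eq_zero_iff p _ hV] at hx hy ⊢
    have := Ideal.mul_mem_mul hx hy
    rw [← Ideal.map_mul] at this
    exact Ideal.map_mono hsq this
  · intro V hV
    rw [app_base_eq_zero_iff p _ hV, hτ, hmap]
    exact Ideal.mem_sup_right (Ideal.mem_span_singleton_self _)
  · intro V hV x hx
    rw [app_base_eq_zero_iff p _ hV, hmap, Submodule.mem_sup] at hx
    obtain ⟨y, hy, z, hz, rfl⟩ := hx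
    obtain ⟨r, rfl⟩ := Ideal.mem_span_singleton'.1 hz
    exact ⟨r, by rw [app_base_eq_zero_iff p _ hV, hτ, add_sub_cancel_right]; exact hy⟩
  · intro V hV r
    rw [app_base_eq_zero_iff p _ hV, app_pullback_fst_eq_zero_iff p g hg hV, hτ]
    refine ⟨fun h => mem_map_colon (str_flat p hV) b _ t (fun x hx => (hcolon x).1 hx) h, fun h => ?_⟩
    have h' := Ideal.mul_mem_mul h (Ideal.mem_map_of_mem (str p V) (Ideal.mem_span_singleton_self t))
    rw [← Ideal.map_mul] at h'
    refine Ideal.map_mono ?_ h'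
    rw [Ideal.mul_le]
    intro x hx y hy
    obtain ⟨w, rfl⟩ := Ideal.mem_span_singleton'.1 hy
    rw [mul_left_comm]
    exact b.mul_mem_left _ ((hcolon x).2 hx)

theorem base_bot_injective (V : X.Opens) (hV : IsAffineOpen V) (x : Γ(X, V))
    (hx : (base p ⊥).app V x = 0) : x = 0 := by
  rwa [app_base_eq_zero_iff p _ hV, Ideal.map_bot, Ideal.mem_bot] at hx

end Groth.Agent.UnitsLib
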