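import Groth.Agent.TopVanish.LCSheaf
import Groth.Prelude.Def_UnitsSh
import Groth.Prelude.Def_Coh
import Mathlib.AlgebraicGeometry.Morphisms.ClosedImmersion

/-!
# Units sequences of nilpotent thickenings

For closed immersions `i : Z ⟶ X` the kernels `Ki i` of `O_X ⟶ i_* O_Z` and `Ku i` of
`O_X^× ⟶ i_* O_Z^×` are compared step by step along a filtration by ideals.
-/

universe u

open CategoryTheory CategoryTheory.Limits AlgebraicGeometry Opposite TopologicalSpace

noncomputable section

set_option autoImplicit false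
set_option maxHeartbeats 400000
set_option synthInstance.maxHeartbeats 100000
set_option backward.isDefEq.respectTransparency false
set_option backward.isDefEq.respectTransparency.types false

namespace Groth.Agent.UnitsLib

section Kernel

variable {T : TopCat.{u}} {F G : CohTop.Ab T}

/-- Sections over `U`, as a functor. -/
abbrev secF (U : Opens T) : CohTop.Ab T ⥤ AddCommGrpCat.{u} :=
  sheafToPresheaf _ _ ⋙ (CategoryTheory.evaluation _ _).obj (op U)

theorem kernel_ι_injective (φ : F ⟶ G) (U : Opens T) :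
    Function.Injective ((kernel.ι φ).hom.app (op U)) := by
  have : Mono ((secF U).map (kernel.ι φ)) := inferInstance
  exact (AddCommGrpCat.mono_iff_injective _).1 this

theorem app_kernel_ι (φ : F ⟶ G) (U : Opens T) (a : (kernel φ).obj.obj (op U)) :
    φ.hom.app (op U) ((kernel.ι φ).hom.app (op U) a) = 0 := by
  have h : (secF U).map (kernel.ι φ) ≫ (secF U).map φ = 0 := by
    rw [← Functor.map_comp, kernel.condition, Functor.map_zero]
  exact ConcreteCategory.congr_hom h a

theorem exists_kernel_section (φ : F ⟶ G) (U : Opens T) (b : F.obj.obj (op U))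
    (hb : φ.hom.app (op U) b = 0) : ∃ a, (kernel.ι φ).hom.app (op U) a = b := by
  let S : ShortComplex (CohTop.Ab T) := ShortComplex.mk (kernel.ι φ) φ (kernel.condition φ)
  have hS : (S.map (secF U)).Exact :=
    ShortComplex.exact_of_f_is_kernel _ (KernelFork.mapIsLimit _ (kernelIsKernel φ) (secF U))
  exact (ShortComplex.ab_exact_iff _).1 hS b hb

theorem res_kernel_ι (φ : F ⟶ G) {U V : Opens T} (h : V ≤ U) (a : (kernel φ).obj.obj (op U)) :
    (kernel.ι φ).hom.app (op V) ((kernel φ).obj.map (homOfLE h).op a) =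
      F.obj.map (homOfLE h).op ((kernel.ι φ).hom.app (op U) a) :=
  ConcreteCategory.congr_hom ((kernel.ι φ).hom.naturality (homOfLE h).op) a

theorem app_res (φ : F ⟶ G) {U V : Opens T} (h : V ≤ U) (a : F.obj.obj (op U)) :
    φ.hom.app (op V) (F.obj.map (homOfLE h).op a) = G.obj.map (homOfLE h).op (φ.hom.app (op U) a) :=
  ConcreteCategory.congr_hom (φ.hom.naturality (homOfLE h).op) a

theorem shExt {φ ψ : F ⟶ G}
    (h : ∀ (U : Opens T) (a : F.obj.obj (op U)), φ.hom.app (op U) a = ψ.hom.app (op U) a) : φ = ψ :=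
  Sheaf.hom_ext (NatTrans.ext (funext fun U => AddCommGrpCat.hom_ext
    (AddMonoidHom.ext fun a => h U.unop a)))

theorem app_zero' (U : Opens T) (a : F.obj.obj (op U)) : (0 : F ⟶ G).hom.app (op U) a = 0 := rfl

end Kernel

variable {X Z Za Zb Z₀ : Scheme.{u}}

/-- `O_X` as an abelian sheaf. -/
abbrev addSh (X : Scheme.{u}) : CohTop.Ab X.toTopCat := Coh.toAb (Coh.structureModule X)

/-- `O_X ⟶ i_* O_Z` as a map of abelian sheaves. -/
def addComap (i : Z ⟶ X) : addSh X ⟶ (CohTop.push i.base).obj (addSh Z) :=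
  ⟨{ app := fun U => AddCommGrpCat.ofHom (i.app U.unop).hom.toAddMonoidHom
     naturality := fun U V f => by
       ext x
       exact ConcreteCategory.congr_hom (i.naturality f) x }⟩

theorem addComap_app (i : Z ⟶ X) (U : X.Opens) (x : Γ(X, U)) :
    (addComap i).hom.app (op U) x = i.app U x := rfl

/-- A function on an open which `i` kills on all affine opens inside is killed by `i`. -/
theorem app_eq_zero_of_affine (i : Z ⟶ X) {U : X.Opens} (x : Γ(X, U))
    (h : ∀ (V : X.Opens) (hV : V ≤ U), IsAffineOpen V → i.app V (X.presheaf.map (homOfLE hV).op x) = 0) :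
    i.app U x = 0 := by
  have hc : ∀ p : U, ∃ V : X.Opens, IsAffineOpen V ∧ p.1 ∈ V ∧ V ≤ U := fun p => by
    obtain ⟨V, hV, hpV, hVU⟩ := exists_isAffineOpen_mem_and_subset p.2
    exact ⟨V, hV, hpV, hVU⟩
  choose V hV hpV hVU using hc
  refine TopCat.Sheaf.eq_of_locally_eq' Z.sheaf (fun p => i ⁻¹ᵁ V p) (i ⁻¹ᵁ U)
    (fun p => homOfLE (i.preimage_mono (hVU p))) (fun z hz => Opens.mem_iSup.2 ⟨⟨i.base z, hz⟩, hpV ⟨i.base z, hz⟩⟩)
    _ _ fun p => ?_
  refine Eq.trans ?_ (map_zero (Z.sheaf.obj.map (homOfLE (i.preimage_mono (hVU p))).op).hom).symm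
  refine Eq.trans ?_ (h (V p) (hVU p) (hV p))
  exact (ConcreteCategory.congr_hom (i.naturality (homOfLE (hVU p)).op) x).symm

theorem map_eq_zero' {R S T : CommRingCat.{u}} (f : R ⟶ S) (g : S ⟶ T) {x : R} (hx : f x = 0) :
    (f ≫ g) x = 0 := by
  rw [ConcreteCategory.comp_apply, hx]; exact map_zero g.hom

/-- The additive kernel. -/
abbrev Ki (i : Z ⟶ X) : CohTop.Ab X.toTopCat := kernel (addComap i)

/-- The multiplicative kernel. -/
abbrev Ku (i : Z ⟶ X) : CohTop.Ab X.toTopCat := kernel (UnitsSh.comap i)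

/-- A section of the additive kernel as a function. -/
def kval {i : Z ⟶ X} {U : X.Opens} (b : (Ki i).obj.obj (op U)) : Γ(X, U) :=
  (kernel.ι (addComap i)).hom.app (op U) b

theorem kval_injective {i : Z ⟶ X} {U : X.Opens} : Function.Injective (kval (i := i) (U := U)) :=
  kernel_ι_injective (addComap i) U

theorem kval_add {i : Z ⟶ X} {U : X.Opens} (a b : (Ki i).obj.obj (op U)) : kval (a + b) = kval a + kval b :=
  map_add ((kernel.ι (addComap i)).hom.app (op U)).hom a b

theorem kval_sub {i : Z ⟶ X} {U : X.Opens} (a b : (Ki i).obj.obj (op U)) : kval (a - b) = kval a - kval b :=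
  map_sub ((kernel.ι (addComap i)).hom.app (op U)).hom a b

theorem app_kval (i : Z ⟶ X) {U : X.Opens} (b : (Ki i).obj.obj (op U)) : i.app U (kval b) = 0 :=
  app_kernel_ι (addComap i) U b

theorem exists_kval (i : Z ⟶ X) {U : X.Opens} (x : Γ(X, U)) (hx : i.app U x = 0) :
    ∃ b : (Ki i).obj.obj (op U), kval b = x :=
  exists_kernel_section (addComap i) U x hx

theorem kval_res {i : Z ⟶ X} {U V : X.Opens} (h : V ≤ U) (b : (Ki i).obj.obj (op U)) :
    kval ((Ki i).obj.map (homOfLE h).op b) = X.presheaf.map (homOfLE h).op (kval b) :=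
  res_kernel_ι (addComap i) h b

/-- A section of the units as a function. -/
def valU {U : X.Opens} (s : (UnitsSh.unitsAb X).obj.obj (op U)) : Γ(X, U) :=
  (UnitsSh.unitOfSect s).val

theorem valU_injective {U : X.Opens} : Function.Injective (valU (X := X) (U := U)) := fun _ _ h =>
  Units.ext h

theorem comap_eq_zero_iff (i : Z ⟶ X) {U : X.Opens} (s : (UnitsSh.unitsAb X).obj.obj (op U)) :
    (UnitsSh.comap i).hom.app (op U) s = 0 ↔ i.app U (valU s) = 1 :=
  ⟨fun h => congrArg (fun t : ((CohTop.push i.base).obj (UnitsSh.unitsAb Z)).obj.obj (op U) =>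
      valU (X := Z) t) h, fun h => valU_injective (X := Z) h⟩

theorem valU_zero {U : X.Opens} : valU (0 : (UnitsSh.unitsAb X).obj.obj (op U)) = 1 := rfl

theorem valU_add {U : X.Opens} (s t : (UnitsSh.unitsAb X).obj.obj (op U)) :
    valU (s + t) = valU s * valU t := rfl

theorem valU_res {U V : X.Opens} (h : V ≤ U) (s : (UnitsSh.unitsAb X).obj.obj (op U)) :
    valU ((UnitsSh.unitsAb X).obj.map (homOfLE h).op s) = X.presheaf.map (homOfLE h).op (valU s) := rfl

theorem valU_comap (i : Z ⟶ X) {U : X.Opens} (s : (UnitsSh.unitsAb X).obj.obj (op U)) :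
    valU (X := Z) (U := i ⁻¹ᵁ U) ((UnitsSh.comap i).hom.app (op U) s) = i.app U (valU s) := rfl

theorem exists_sect_of_isUnit {U : X.Opens} {x : Γ(X, U)} (hx : IsUnit x) :
    ∃ s : (UnitsSh.unitsAb X).obj.obj (op U), valU s = x := by
  obtain ⟨v, rfl⟩ := hx
  exact ⟨UnitsSh.sectOfUnit v, rfl⟩

/-- Affine opens form a neighbourhood basis: helper for local surjectivity. -/
theorem exists_affine {U : X.Opens} {x : X} (hx : x ∈ U) :
    ∃ (V : X.Opens) (_ : V ≤ U), x ∈ V ∧ IsAffineOpen V := by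
  obtain ⟨V, hV, hxV, hVU⟩ := exists_isAffineOpen_mem_and_subset hx
  exact ⟨V, hVU, hxV, hV⟩

/-- The units sequence of a closed immersion with nilpotent kernel is short exact. -/
theorem units_shortExact (i : Z ⟶ X) [IsClosedImmersion i]
    (hnil : ∀ (V : X.Opens), IsAffineOpen V → ∀ x : Γ(X, V), i.app V x = 0 → IsNilpotent x) :
    (ShortComplex.mk (kernel.ι (UnitsSh.comap i)) (UnitsSh.comap i) (kernel.condition _)).ShortExact := by
  refine TopVanish.shortExact_of_local _ (fun U a ha => kernel_ι_injective _ U (ha.trans (map_zero _).symm))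
    (fun U b hb x hx => ⟨U, le_rfl, hx, ?_⟩) (fun U c x hx => ?_)
  · obtain ⟨a, ha⟩ := exists_kernel_section _ U b hb
    exact ⟨a, ha.trans (by simp)⟩
  · obtain ⟨V, hVU, hxV, hV⟩ := exists_affine (X := X) hx
    refine ⟨V, hVU, hxV, ?_⟩
    let c' : Γ(Z, i ⁻¹ᵁ V)ˣ := UnitsSh.unitOfSect
      (((CohTop.push i.base).obj (UnitsSh.unitsAb Z)).obj.map (homOfLE hVU).op c)
    obtain ⟨y, hy⟩ := i.app_surjective V hV c'.val
    obtain ⟨z, hz⟩ := i.app_surjective V hV c'.inv
    have h1 : i.app V (y * z - 1) = 0 := by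
      rw [map_sub, map_mul, hy, hz, map_one, c'.val_inv, sub_self]
    have h2 : IsUnit (y * z) := by
      have := (hnil V hV _ h1).isUnit_one_add
      rwa [add_sub_cancel] at this
    obtain ⟨s, hs⟩ := exists_sect_of_isUnit (isUnit_of_mul_isUnit_left h2)
    refine ⟨s, valU_injective (X := Z) ?_⟩
    exact (valU_comap i s).trans (hs.symm ▸ hy)

section Step

/-- Restriction of a global function. -/
def τres (τ : Γ(X, ⊤)) (V : X.Opens) : Γ(X, V) :=
  X.presheaf.map (homOfLE (le_top : V ≤ ⊤)).op τ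

theorem τres_res (τ : Γ(X, ⊤)) {U V : X.Opens} (f : op U ⟶ op V) :
    X.presheaf.map f (τres τ U) = τres τ V :=
  (ConcreteCategory.congr_hom (X.presheaf.map_comp (homOfLE (le_top : U ≤ ⊤)).op f) τ).symm

/-- One step `b ≤ a` of the filtration, with successive quotient `τ • O`, killed exactly by the
ideal of `i₀`, in affine-local terms. -/
structure Step (ia : Za ⟶ X) (ib : Zb ⟶ X) (i₀ : Z₀ ⟶ X) (τ : Γ(X, ⊤)) : Prop where
  le : ∀ V : X.Opens, IsAffineOpen V → ∀ x, ib.app V x = 0 → ia.app V x = 0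
  nil : ∀ V : X.Opens, IsAffineOpen V → ∀ x, ia.app V x = 0 → IsNilpotent x
  sq : ∀ V : X.Opens, IsAffineOpen V → ∀ x y, ia.app V x = 0 → ia.app V y = 0 → ib.app V (x * y) = 0
  tau_mem : ∀ V : X.Opens, IsAffineOpen V → ia.app V (τres τ V) = 0
  gen : ∀ V : X.Opens, IsAffineOpen V → ∀ x, ia.app V x = 0 →
    ∃ r, ib.app V (x - r * τres τ V) = 0
  colon : ∀ V : X.Opens, IsAffineOpen V → ∀ r,
    ib.app V (r * τres τ V) = 0 ↔ i₀.app V r = 0

variable {ia : Za ⟶ X} {ib : Zb ⟶ X} {i₀ : Z₀ ⟶ X} {τ : Γ(X, ⊤)}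

theorem Step.le_all (h : Step ia ib i₀ τ) {U : X.Opens} (x : Γ(X, U)) (hx : ib.app U x = 0) :
    ia.app U x = 0 :=
  app_eq_zero_of_affine ia x fun V hV hVA => h.le V hVA _ <|
    (ConcreteCategory.congr_hom (ib.naturality (homOfLE hV).op) x).trans
      (map_eq_zero' _ _ hx)

theorem app_res_eq_zero (i : Z ⟶ X) {U V : X.Opens} (hV : V ≤ U) {x : Γ(X, U)} (hx : i.app U x = 0) :
    i.app V (X.presheaf.map (homOfLE hV).op x) = 0 :=
  (ConcreteCategory.congr_hom (i.naturality (homOfLE hV).op) x).trans (map_eq_zero' _ _ hx)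

theorem Step.sq_all (h : Step ia ib i₀ τ) {U : X.Opens} (x y : Γ(X, U)) (hx : ia.app U x = 0)
    (hy : ia.app U y = 0) : ib.app U (x * y) = 0 :=
  app_eq_zero_of_affine ib _ fun V hV hVA => by
    rw [map_mul]
    exact h.sq V hVA _ _ (app_res_eq_zero ia hV hx) (app_res_eq_zero ia hV hy)

/-- The inclusion of additive kernels. -/
def kiIncl (h : Step ia ib i₀ τ) : Ki ib ⟶ Ki ia :=
  kernel.lift _ (kernel.ι (addComap ib)) <| by
    refine shExt fun U a => ?_
    exact h.le_all (U := U) _ (app_kval ib a)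

/-- The inclusion of unit kernels. -/
def kuIncl (h : Step ia ib i₀ τ) : Ku ib ⟶ Ku ia :=
  kernel.lift _ (kernel.ι (UnitsSh.comap ib)) <| by
    refine shExt fun U a => ?_
    refine (comap_eq_zero_iff ia _).2 (sub_eq_zero.1 ?_)
    have := (comap_eq_zero_iff ib _).1 (app_kernel_ι (UnitsSh.comap ib) U a)
    have h1 := h.le_all (valU (X := X) (U := U) ((kernel.ι (UnitsSh.comap ib)).hom.app (op U) a) - 1)
      (by rw [map_sub, map_one, this, sub_self])
    rwa [map_sub, map_one] at h1

theorem kiIncl_ι (h : Step ia ib i₀ τ) (U : X.Opens) (a : (Ki ib).obj.obj (op U)) :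
    (kernel.ι (addComap ia)).hom.app (op U) ((kiIncl h).hom.app (op U) a) =
      (kernel.ι (addComap ib)).hom.app (op U) a :=
  ConcreteCategory.congr_hom (congrArg (fun φ => (sheafToPresheaf _ _ ⋙
    (CategoryTheory.evaluation _ _).obj (op U)).map φ) (kernel.lift_ι (addComap ia) _ _)) a

theorem kval_kiIncl (h : Step ia ib i₀ τ) {U : X.Opens} (a : (Ki ib).obj.obj (op U)) :
    kval ((kiIncl h).hom.app (op U) a) = kval a :=
  kiIncl_ι h U a

theorem kuIncl_ι (h : Step ia ib i₀ τ) (U : X.Opens) (a : (Ku ib).obj.obj (op U)) :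
    (kernel.ι (UnitsSh.comap ia)).hom.app (op U) ((kuIncl h).hom.app (op U) a) =
      (kernel.ι (UnitsSh.comap ib)).hom.app (op U) a :=
  ConcreteCategory.congr_hom (congrArg (fun φ => (sheafToPresheaf _ _ ⋙
    (CategoryTheory.evaluation _ _).obj (op U)).map φ) (kernel.lift_ι (UnitsSh.comap ia) _ _)) a

/-- The successive quotient. -/
abbrev Quot₁ (h : Step ia ib i₀ τ) : CohTop.Ab X.toTopCat := cokernel (kiIncl h)

theorem quot_shortExact (h : Step ia ib i₀ τ) :
    (ShortComplex.mk (kiIncl h) (cokernel.π (kiIncl h)) (cokernel.condition _)).ShortExact := by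
  have he : kiIncl h ≫ kernel.ι (addComap ia) = kernel.ι (addComap ib) := kernel.lift_ι _ _ _
  have hm : Mono (kiIncl h) := mono_of_mono_fac he
  exact { exact := ShortComplex.exact_of_g_is_cokernel _ (cokernelIsCokernel _)
          mono_f := hm
          epi_g := inferInstanceAs (Epi (cokernel.π (kiIncl h))) }

theorem pi_eq_zero_iff (h : Step ia ib i₀ τ) {U : X.Opens} (b : (Ki ia).obj.obj (op U)) :
    (cokernel.π (kiIncl h)).hom.app (op U) b = 0 ↔
      ib.app U (kval b) = 0 := by
  have hS : (ShortComplex.mk (kiIncl h) (cokernel.π (kiIncl h)) (cokernel.condition _)).ShortExact :=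
    quot_shortExact h
  haveI : Balanced (CohTop.Ab X.toTopCat) := inferInstance
  have hE : ((ShortComplex.mk (kiIncl h) (cokernel.π (kiIncl h)) (cokernel.condition _)).map (secF U)).Exact :=
    ShortComplex.exact_of_f_is_kernel _ (KernelFork.mapIsLimit _
      (@ShortComplex.ShortExact.fIsKernel (CohTop.Ab X.toTopCat) _ _ _ _ hS) (secF U))
  constructor
  · intro hb
    obtain ⟨a, ha⟩ := (ShortComplex.ab_exact_iff _).1 hE b hb
    have ha' : (kiIncl h).hom.app (op U) a = b := ha
    rw [← ha', kval_kiIncl]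
    exact app_kval ib a
  · intro hb
    obtain ⟨a, ha⟩ := exists_kval ib _ hb
    have ha' : (kiIncl h).hom.app (op U) a = b :=
      kval_injective ((kval_kiIncl h a).trans ha)
    rw [← ha']
    exact ConcreteCategory.congr_hom (congrArg (fun φ => (secF U).map φ) (cokernel.condition (kiIncl h))) a

theorem pi_locally_surjective (h : Step ia ib i₀ τ) {U : X.Opens} (c : (Quot₁ h).obj.obj (op U))
    {x : X} (hx : x ∈ U) : ∃ (V : X.Opens) (hV : V ≤ U), x ∈ V ∧ IsAffineOpen V ∧ ∃ b,
      (cokernel.π (kiIncl h)).hom.app (op V) b = (Quot₁ h).obj.map (homOfLE hV).op c := by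
  have : Sheaf.IsLocallySurjective (cokernel.π (kiIncl h)) :=
    (Sheaf.isLocallySurjective_iff_epi' AddCommGrpCat.{u} _).2 inferInstance
  obtain ⟨V, g, ⟨b, hb⟩, hxV⟩ := Presheaf.imageSieve_mem (Opens.grothendieckTopology X.toTopCat)
    (cokernel.π (kiIncl h)).hom c x hx
  obtain ⟨W, hWV, hxW, hW⟩ := exists_affine (X := X) hxV
  refine ⟨W, hWV.trans g.le, hxW, hW, (Ki ia).obj.map (homOfLE hWV).op b, ?_⟩
  rw [app_res]
  exact (congrArg _ hb).trans (ConcreteCategory.congr_hom ((Quot₁ h).obj.map_comp g.op (homOfLE hWV).op) c).symm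

/-- `f ↦ u - 1` into the additive kernel. -/
theorem exists_sub_one (h : Step ia ib i₀ τ) {U : X.Opens} (s : (Ku ia).obj.obj (op U)) :
    ∃ b : (Ki ia).obj.obj (op U), kval b =
      valU (X := X) ((kernel.ι (UnitsSh.comap ia)).hom.app (op U) s) - 1 := by
  refine exists_kval ia _ ?_
  rw [map_sub, map_one, (comap_eq_zero_iff ia _).1 (app_kernel_ι _ U s), sub_self]

def subOne (h : Step ia ib i₀ τ) {U : X.Opens} (s : (Ku ia).obj.obj (op U)) : (Ki ia).obj.obj (op U) :=
  (exists_sub_one h s).choose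

theorem subOne_spec (h : Step ia ib i₀ τ) {U : X.Opens} (s : (Ku ia).obj.obj (op U)) :
    kval (subOne h s) =
      valU (X := X) ((kernel.ι (UnitsSh.comap ia)).hom.app (op U) s) - 1 :=
  (exists_sub_one h s).choose_spec

theorem pi_subOne_add (h : Step ia ib i₀ τ) {U : X.Opens} (s t : (Ku ia).obj.obj (op U)) :
    (cokernel.π (kiIncl h)).hom.app (op U) (subOne h (s + t)) =
      (cokernel.π (kiIncl h)).hom.app (op U) (subOne h s) +
        (cokernel.π (kiIncl h)).hom.app (op U) (subOne h t) := by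
  rw [← map_add, ← sub_eq_zero, ← map_sub, pi_eq_zero_iff, kval_sub, kval_add, subOne_spec,
    subOne_spec, subOne_spec, map_add, valU_add]
  refine (congrArg _ (?_ : _ = (valU (X := X) ((kernel.ι (UnitsSh.comap ia)).hom.app (op U) s) - 1) *
    (valU (X := X) ((kernel.ι (UnitsSh.comap ia)).hom.app (op U) t) - 1))).trans
    (h.sq_all _ _ ?_ ?_)
  · ring
  · rw [← subOne_spec h]; exact app_kval ia _
  · rw [← subOne_spec h]; exact app_kval ia _

/-- `u ↦ [u - 1]`. -/
def theta (h : Step ia ib i₀ τ) : Ku ia ⟶ Quot₁ h :=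
  ⟨{ app := fun U => AddCommGrpCat.ofHom
        (AddMonoidHom.mk' (fun s => (cokernel.π (kiIncl h)).hom.app U (subOne h (U := U.unop) s))
          (fun s t => pi_subOne_add h s t))
     naturality := fun U V f => by
       ext s
       refine Eq.trans (congrArg ((cokernel.π (kiIncl h)).hom.app V) ?_)
         (ConcreteCategory.congr_hom ((cokernel.π (kiIncl h)).hom.naturality f) (subOne h (U := U.unop) s))
       refine kval_injective ?_
       refine (subOne_spec h _).trans (Eq.trans ?_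
         (kval_res (U := U.unop) (V := V.unop) f.unop.le _).symm)
       refine Eq.trans ?_ (congrArg (X.presheaf.map (homOfLE f.unop.le).op) (subOne_spec h (U := U.unop) s)).symm
       refine Eq.trans ?_ (map_sub (X.presheaf.map (homOfLE f.unop.le).op).hom _ _).symm
       rw [map_one]
       refine congrArg (· - 1) ?_
       exact congrArg (valU (X := X) (U := V.unop))
         (ConcreteCategory.congr_hom ((kernel.ι (UnitsSh.comap ia)).hom.naturality f) s) }⟩

theorem theta_app (h : Step ia ib i₀ τ) (U : X.Opens) (s : (Ku ia).obj.obj (op U)) :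
    (theta h).hom.app (op U) s = (cokernel.π (kiIncl h)).hom.app (op U) (subOne h s) := rfl

theorem theta_eq_zero_iff (h : Step ia ib i₀ τ) (U : X.Opens) (s : (Ku ia).obj.obj (op U)) :
    (theta h).hom.app (op U) s = 0 ↔
      (UnitsSh.comap ib).hom.app (op U) ((kernel.ι (UnitsSh.comap ia)).hom.app (op U) s) = 0 := by
  rw [theta_app, pi_eq_zero_iff, subOne_spec, comap_eq_zero_iff, map_sub, map_one, sub_eq_zero]

theorem kuIncl_theta (h : Step ia ib i₀ τ) : kuIncl h ≫ theta h = 0 := by
  refine shExt fun U a => ?_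
  refine (theta_eq_zero_iff h U _).2 ?_
  exact (congrArg ((UnitsSh.comap ib).hom.app (op U)) (kuIncl_ι h U a)).trans
    (app_kernel_ι (UnitsSh.comap ib) U a)

theorem ku_shortExact (h : Step ia ib i₀ τ) :
    (ShortComplex.mk (kuIncl h) (theta h) (kuIncl_theta h)).ShortExact := by
  refine TopVanish.shortExact_of_local _ (fun U a ha => ?_) (fun U b hb x hx => ⟨U, le_rfl, hx, ?_⟩)
    (fun U c x hx => ?_)
  · refine kernel_ι_injective (UnitsSh.comap ib) U ?_
    rw [← kuIncl_ι h, map_zero]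
    exact (congrArg _ ha).trans (map_zero _)
  · obtain ⟨a, ha⟩ := exists_kernel_section _ U _ ((theta_eq_zero_iff h U b).1 hb)
    refine ⟨a, (kernel_ι_injective (UnitsSh.comap ia) U ((kuIncl_ι h U a).trans ha)).trans ?_⟩
    simp
  · obtain ⟨V, hV, hxV, hVA, b, hb⟩ := pi_locally_surjective h c hx
    refine ⟨V, hV, hxV, ?_⟩
    obtain ⟨s, hs⟩ := exists_sect_of_isUnit (h.nil V hVA _ (app_kval ia b)).isUnit_one_add
    obtain ⟨t, ht⟩ := exists_kernel_section (UnitsSh.comap ia) V s ((comap_eq_zero_iff ia s).2 (by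
      rw [hs, map_add, map_one, app_kval, add_zero]))
    refine ⟨t, Eq.trans ?_ hb⟩
    refine (theta_app h V t).trans (congrArg _ ?_)
    refine kval_injective ?_
    rw [subOne_spec, ht, hs, add_sub_cancel_left]

/-- Multiplication by `τ` on the sections over one open. -/
def mulTauHom (τ : Γ(X, ⊤)) (U : X.Opens) : (addSh X).obj.obj (op U) ⟶ (addSh X).obj.obj (op U) :=
  AddCommGrpCat.ofHom (X := Γ(X, U)) (Y := Γ(X, U)) (AddMonoidHom.mulRight (τres τ U))

theorem mulTauHom_res (τ : Γ(X, ⊤)) {U V : X.Opens} (f : op U ⟶ op V) (x : Γ(X, U)) :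
    X.presheaf.map f x * τres τ V = X.presheaf.map f (x * τres τ U) := by
  rw [map_mul, τres_res]

/-- Multiplication by `τ`, into the additive kernel. -/
def mulTau (τ : Γ(X, ⊤)) : addSh X ⟶ addSh X :=
  ⟨{ app := fun U => mulTauHom τ U.unop
     naturality := fun U V f => AddCommGrpCat.hom_ext (AddMonoidHom.ext fun x => mulTauHom_res τ (U := U.unop) (V := V.unop) f x) }⟩

theorem mulTau_app (τ : Γ(X, ⊤)) (U : X.Opens) (r : Γ(X, U)) :
    (mulTau τ).hom.app (op U) r = HMul.hMul (α := Γ(X, U)) (β := Γ(X, U)) r (τres τ U) := rfl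

def tauMap (h : Step ia ib i₀ τ) : addSh X ⟶ Quot₁ h :=
  kernel.lift (addComap ia) (mulTau τ) (by
    refine shExt fun U r => ?_
    refine app_eq_zero_of_affine ia (HMul.hMul (α := Γ(X, U)) (β := Γ(X, U)) r (τres τ U)) fun V hV hVA => ?_
    rw [map_mul, map_mul, τres_res]
    exact mul_eq_zero_of_right _ (h.tau_mem V hVA)) ≫ cokernel.π (kiIncl h)

theorem tauMap_eq_zero_iff (h : Step ia ib i₀ τ) (V : X.Opens) (r : Γ(X, V)) :
    (tauMap h).hom.app (op V) r = 0 ↔ ib.app V (r * τres τ V) = 0 := by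
  refine (pi_eq_zero_iff h _).trans (Eq.to_iff (congrArg (fun z => ib.app V z = 0) ?_))
  exact ConcreteCategory.congr_hom (congrArg (fun φ => (secF V).map φ) (kernel.lift_ι (addComap ia) (mulTau τ) _)) r

theorem addComap_shortExact (i : Z ⟶ X) [IsClosedImmersion i] :
    (ShortComplex.mk (kernel.ι (addComap i)) (addComap i) (kernel.condition _)).ShortExact := by
  refine TopVanish.shortExact_of_local _ (fun U a ha => kernel_ι_injective _ U (ha.trans (map_zero _).symm))
    (fun U b hb x hx => ⟨U, le_rfl, hx, ?_⟩) (fun U c x hx => ?_)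
  · obtain ⟨a, ha⟩ := exists_kernel_section _ U b hb
    exact ⟨a, ha.trans (by simp)⟩
  · obtain ⟨V, hVU, hxV, hV⟩ := exists_affine (X := X) hx
    exact ⟨V, hVU, hxV, i.app_surjective V hV _⟩

theorem kernel_tauMap (h : Step ia ib i₀ τ) : kernel.ι (addComap i₀) ≫ tauMap h = 0 := by
  refine shExt fun U a => ?_
  refine (tauMap_eq_zero_iff h U (kval a)).2 ?_
  refine app_eq_zero_of_affine ib _ fun V hV hVA => ?_
  rw [map_mul, τres_res]
  exact (h.colon V hVA _).2 (app_res_eq_zero i₀ hV (app_kval i₀ a))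

theorem tau_shortExact (h : Step ia ib i₀ τ) :
    (ShortComplex.mk (kernel.ι (addComap i₀)) (tauMap h) (kernel_tauMap h)).ShortExact := by
  refine TopVanish.shortExact_of_local _ (fun U a ha => kernel_ι_injective _ U (ha.trans (map_zero _).symm))
    (fun U b hb x hx => ?_) (fun U c x hx => ?_)
  · obtain ⟨V, hVU, hxV, hV⟩ := exists_affine (X := X) hx
    refine ⟨V, hVU, hxV, exists_kernel_section (addComap i₀) V _ ((h.colon V hV _).1
      ((tauMap_eq_zero_iff h V _).1 ?_))⟩
    rw [app_res]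
    exact (congrArg _ hb).trans (map_zero _)
  · obtain ⟨V, hV, hxV, hVA, b, hb⟩ := pi_locally_surjective h c hx
    refine ⟨V, hV, hxV, ?_⟩
    obtain ⟨r, hr⟩ := h.gen V hVA _ (app_kval ia b)
    refine ⟨r, Eq.trans (Eq.symm ?_) hb⟩
    show (cokernel.π (kiIncl h)).hom.app (op V) b = (cokernel.π (kiIncl h)).hom.app (op V) _
    rw [← sub_eq_zero, ← map_sub, pi_eq_zero_iff, kval_sub]
    refine Eq.trans (congrArg (fun z => ib.app V (_ - z)) ?_) hr
    exact ConcreteCategory.congr_hom (congrArg (fun φ => (secF V).map φ) (kernel.lift_ι (addComap ia) (mulTau τ) _)) r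

/-- The successive quotient is the direct image of the structure sheaf of `Z₀`. -/
theorem nonempty_quot_iso (h : Step ia ib i₀ τ) [IsClosedImmersion i₀] :
    Nonempty (Quot₁ h ≅ (CohTop.push i₀.base).obj (addSh Z₀)) :=
  ⟨(tau_shortExact h).gIsCokernel.coconePointUniqueUpToIso (addComap_shortExact i₀).gIsCokernel⟩

end Step

end Groth.Agent.UnitsLib
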